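import Cfsg.Agent.H52.ThreeFi22Cover
import Cfsg.Agent.Fischer.Fi22PtsRep

/-!
# The triple cover `3.Fi22` as the subgroup `⟨u_0, …, u_8⟩` of `GL (54, 2)`: words (helper922)

* `pi3 : K3 →* Fi22`, `pi3_x : pi3 (x3 p) = of p`, `pce3`, `card_ker3`;
* `wd3 w` : the value of a word; `pi3_wd3`; `om3` : the generator of the kernel (the tenth power of the spider);
* `run3 w p` : the image of the vector `p` under a word (a number below `2 ^ 54`);
* `wd3_ne` : two words which differ on a vector; `wd3_eq` : two words with the same value in `Fi22` whose values on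
  one vector differ by the scalar `om3 ^ i`.
-/

set_option autoImplicit false
set_option linter.style.haveILetI false

namespace Cfsg.Agent.H922.QS.FiThree

open Cfsg Cfsg.Agent.Lib Cfsg.Agent.Lib.F2Mat Cfsg.Agent.Lib.F2MatGroup Cfsg.Agent.KFacts.MulEven.Cox9
open Cfsg.Agent.KFacts.MulEven.Lift9 Cfsg.Agent.KFacts.MulEven.Fi22 Cfsg.Agent.H51.Mult Cfsg.Agent.H52.OddLift
open Cfsg.Agent.H52.Fi22Odd Cfsg.Agent.H52.Fibre Subgroup Cfsg.Agent.H52 Cfsg.Agent.H52.ThreeFi22Cover
open Cfsg.Agent.Fischer

/-- `3.Fi22` -/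
abbrev K3 : Type := ↥(Subgroup.closure (Set.range ThreeFi22.u))

/-- the generators -/
def v3 (i : Fin 9) : K3 := ⟨ThreeFi22.u i, subset_closure ⟨i, rfl⟩⟩

/-- the generators, indexed by the nodes -/
def x3 (p : Spor.Fi22.Gen) : K3 := v3 (idx p)

theorem coe_ev (w : List (Fin 9)) : ((ev v3 w : K3) : GL (Fin 54) (ZMod 2)) = ev ThreeFi22.u w :=
  ev_map (Subgroup.closure (Set.range ThreeFi22.u)).subtype v3 w

theorem closure_v3 : Subgroup.closure (Set.range v3) = ⊤ := by
  have h1 := Subgroup.closure_closure_coe_preimage (k := Set.range ThreeFi22.u)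
  have h2 : Set.range v3 = ((↑) : K3 → GL (Fin 54) (ZMod 2)) ⁻¹' (Set.range ThreeFi22.u) := by
    ext x
    constructor
    · rintro ⟨i, rfl⟩
      exact ⟨i, rfl⟩
    · rintro ⟨i, hi⟩
      exact ⟨i, Subtype.ext hi⟩
  rw [h2]
  exact h1

theorem lift3 : M9.IsLiftable v3 := by
  intro i j
  apply Subtype.ext
  exact ThreeFi22.liftable i j

/-- the generator of the kernel -/
def om3 : K3 := ev v3 spider ^ 10

theorem coe_om3 : ((om3 : K3) : GL (Fin 54) (ZMod 2)) = ThreeFi22.s := by
  rw [om3, Subgroup.coe_pow, coe_ev]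
  rfl

theorem om3_comm (g : K3) : om3 * g = g * om3 := by
  have hg : g ∈ Subgroup.closure (Set.range v3) := by rw [closure_v3]; exact mem_top g
  induction hg using Subgroup.closure_induction with
  | mem x hx =>
    obtain ⟨i, rfl⟩ := hx
    apply Subtype.ext
    show ((om3 : K3) : GL (Fin 54) (ZMod 2)) * ThreeFi22.u i = ThreeFi22.u i * ((om3 : K3) : GL (Fin 54) (ZMod 2))
    rw [coe_om3]
    exact ThreeFi22.s_comm i
  | one => rw [mul_one, one_mul]
  | mul x y _ _ hx hy => rw [← mul_assoc, hx, mul_assoc, hy, mul_assoc]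
  | inv x _ hx => rw [eq_inv_mul_iff_mul_eq, ← mul_assoc, ← hx, mul_inv_cancel_right]

theorem om3_cube : om3 ^ 3 = 1 := spider_cube lift3 om3_comm

theorem om3_ne : om3 ≠ 1 := by
  intro h
  apply ThreeFi22.s_ne
  rw [← coe_om3, h, Subgroup.coe_one]

theorem order_om3 : orderOf om3 = 3 := by
  haveI : Fact (Nat.Prime 3) := ⟨Nat.prime_three⟩
  exact orderOf_eq_prime om3_cube om3_ne

theorem exists_pi3 : ∃ π : K3 →* Spor.Fi22, PCE π ∧ π.ker = zpowers om3 ∧ ∀ i, π (v3 i) = e0 i := by
  haveI hsimple : IsSimpleGroup Spor.Fi22 := Cfsg.Agent.S1696.result.1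
  set K : Subgroup K3 := zpowers om3 with hK
  have hKc : K ≤ center K3 := by
    rw [hK, zpowers_le, mem_center_iff]
    exact fun g => (om3_comm g).symm
  haveI : K.Normal := normal_of_le_center hKc
  have hK3 : ∀ k ∈ K, k ^ 3 = 1 := by
    intro k hk
    obtain ⟨n, rfl⟩ := mem_zpowers_iff.1 hk
    rw [← zpow_natCast, ← zpow_mul, mul_comm, zpow_mul, zpow_natCast, om3_cube, one_zpow]
  let q : K3 →* K3 ⧸ K := QuotientGroup.mk' K
  have hq1 : ∀ x, q x = 1 ↔ x ∈ K := fun x => QuotientGroup.eq_one_iff x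
  have hR : FRels (fun i => q (v3 i)) 1 := by
    have e1 : ∀ w, ev v3 w ^ 9 = 1 ↔ ev ThreeFi22.u w ^ 9 = 1 := by
      intro w
      rw [← coe_ev, ← Subgroup.coe_pow]
      exact ⟨fun h => by rw [h, Subgroup.coe_one], fun h => Subtype.ext h⟩
    refine ⟨fun i j => ?_, ?_, ?_, ?_⟩
    · show (q (v3 i) * q (v3 j)) ^ _ = 1
      rw [← map_mul, ← map_pow, lift3 i j, map_one]
    · rw [← ev_map, ← map_pow, hq1]
      exact mem_zpowers om3
    · rw [← ev_map, ← map_pow, (e1 WA).2 ThreeFi22.eA, map_one]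
    · rw [← ev_map, ← map_pow, (e1 WB).2 ThreeFi22.eB, map_one]
  obtain ⟨φ, hφ⟩ := hR.exists_hom
  have hφs : Function.Surjective φ := by
    rw [← MonoidHom.range_eq_top, eq_top_iff]
    have h1 : (⊤ : Subgroup (K3 ⧸ K)) = (Subgroup.closure (Set.range v3)).map q := by
      rw [closure_v3, Subgroup.map_top_of_surjective q (QuotientGroup.mk'_surjective K)]
    rw [h1, MonoidHom.map_closure, closure_le]
    rintro _ ⟨_, ⟨i, rfl⟩, rfl⟩
    exact ⟨e0 i, hφ i⟩
  have hφi : Function.Injective φ := by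
    rw [← MonoidHom.ker_eq_bot_iff]
    rcases IsSimpleGroup.eq_bot_or_eq_top_of_normal φ.ker inferInstance with h | h
    · exact h
    · exfalso
      have h1 : ∀ i, v3 i = 1 := by
        intro i
        have h2 : e0 i ∈ φ.ker := by rw [h]; exact mem_top _
        rw [MonoidHom.mem_ker, hφ] at h2
        have h3 := hK3 _ ((hq1 _).1 h2)
        have h4 : v3 i * v3 i = 1 := sq lift3 i
        rw [pow_succ, pow_two, h4, one_mul] at h3
        exact h3
      apply om3_ne
      rw [om3]
      have h2 : v3 = fun _ => 1 := funext h1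
      have h3 : ∀ w : List (Fin 9), ev (fun _ : Fin 9 => (1 : K3)) w = 1 := by
        intro w
        induction w with
        | nil => rfl
        | cons i w ih => rw [ev_cons, ih, mul_one]
      rw [h2, h3, one_pow]
  let e : Spor.Fi22 ≃* K3 ⧸ K := MulEquiv.ofBijective φ ⟨hφi, hφs⟩
  let π : K3 →* Spor.Fi22 := e.symm.toMonoidHom.comp q
  have hker : π.ker = K := by
    ext x
    rw [MonoidHom.mem_ker, ← hq1]
    show e.symm (q x) = 1 ↔ q x = 1
    exact map_eq_one_iff e.symm e.symm.injective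
  have hsurj : Function.Surjective π := e.symm.surjective.comp (QuotientGroup.mk'_surjective K)
  refine ⟨π, ⟨hsurj, by rw [hker]; exact hKc, ?_⟩, hker, ?_⟩
  · refine perfect_of_gens π hsurj (by rw [hker]; exact hKc) 1 ?_ perfect_fi22 closure_v3 ?_
    · intro k hk
      have : k ∈ K := by rw [← hker]; exact hk
      exact hK3 k this
    · rintro _ ⟨i, rfl⟩
      exact sq lift3 i
  · intro i
    show e.symm (q (v3 i)) = e0 i
    rw [MulEquiv.symm_apply_eq]
    exact (hφ i).symm

/-- the homomorphism onto `Fi22` -/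
noncomputable def pi3 : K3 →* Spor.Fi22 := Classical.choose exists_pi3

theorem pce3 : PCE pi3 := (Classical.choose_spec exists_pi3).1

theorem ker3 : pi3.ker = zpowers om3 := (Classical.choose_spec exists_pi3).2.1

theorem pi3_v (i : Fin 9) : pi3 (v3 i) = e0 i := (Classical.choose_spec exists_pi3).2.2 i

theorem pi3_x (p : Spor.Fi22.Gen) : pi3 (x3 p) = Fi22PtsRep.gen p := by
  rw [x3, pi3_v, e0, gen_idx]
  rfl

theorem card_ker3 : Nat.card pi3.ker = 3 := by rw [ker3, Nat.card_zpowers, order_om3]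

/-- the value of a word in `3.Fi22` -/
def wd3 (w : List Spor.Fi22.Gen) : K3 := (w.map x3).prod

theorem wd3_nil : wd3 [] = 1 := rfl

theorem wd3_cons (y : Spor.Fi22.Gen) (w : List Spor.Fi22.Gen) : wd3 (y :: w) = x3 y * wd3 w := by simp [wd3]

theorem wd3_append (v w : List Spor.Fi22.Gen) : wd3 (v ++ w) = wd3 v * wd3 w := by simp [wd3]

theorem pi3_wd3 (w : List Spor.Fi22.Gen) : pi3 (wd3 w) = Fi22PtsRep.wd w := by
  induction w with
  | nil => rw [wd3_nil, map_one, Fi22PtsRep.wd_nil]
  | cons y w ih => rw [wd3_cons, map_mul, ih, pi3_x, Fi22PtsRep.wd_cons]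

/-! ### Words on one vector -/

/-- the matrix of a node -/
def m3 : Spor.Fi22.Gen → ℕ
  | .a => ThreeFi22.mA
  | .b => ThreeFi22.mB
  | .c => ThreeFi22.mC
  | .d => ThreeFi22.mD
  | .e => ThreeFi22.mE
  | .f => ThreeFi22.mF
  | .g => ThreeFi22.mG
  | .h => ThreeFi22.mH
  | .i => ThreeFi22.mI

theorem codes_x3 (p : Spor.Fi22.Gen) : Codes 54 ((x3 p : K3) : GL (Fin 54) (ZMod 2)) (m3 p) := by
  cases p
  · exact ThreeFi22.codes_inv' ThreeFi22.mA ThreeFi22.sA
  · exact ThreeFi22.codes_inv' ThreeFi22.mB ThreeFi22.sB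
  · exact ThreeFi22.codes_inv' ThreeFi22.mC ThreeFi22.sC
  · exact ThreeFi22.codes_inv' ThreeFi22.mD ThreeFi22.sD
  · exact ThreeFi22.codes_inv' ThreeFi22.mE ThreeFi22.sE
  · exact ThreeFi22.codes_inv' ThreeFi22.mF ThreeFi22.sF
  · exact ThreeFi22.codes_inv' ThreeFi22.mG ThreeFi22.sG
  · exact ThreeFi22.codes_inv' ThreeFi22.mH ThreeFi22.sH
  · exact ThreeFi22.codes_inv' ThreeFi22.mI ThreeFi22.sI

/-- the image of the row vector `p` under the word (the letters act one after the other, from the left) -/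
def run3 (w : List Spor.Fi22.Gen) (p : ℕ) : ℕ :=
  List.rec (motive := fun _ => ℕ → ℕ) (fun p => p) (fun y _ ih p => force (vmul 54 p (m3 y)) fun q => ih q) w p

theorem run3_nil (p : ℕ) : run3 [] p = p := rfl

theorem run3_cons (y : Spor.Fi22.Gen) (w : List Spor.Fi22.Gen) (p : ℕ) :
    run3 (y :: w) p = run3 w (vmul 54 p (m3 y)) :=
  force_eq (vmul 54 p (m3 y)) fun q => run3 w q

theorem toVec_run3 (w : List Spor.Fi22.Gen) (p : ℕ) : toVec 54 (run3 w p) =
    Matrix.vecMul (toVec 54 p) (((wd3 w : K3) : GL (Fin 54) (ZMod 2)) : Matrix (Fin 54) (Fin 54) (ZMod 2)) := by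
  induction w generalizing p with
  | nil => rw [run3_nil, wd3_nil, Subgroup.coe_one, Units.val_one, Matrix.vecMul_one]
  | cons y w ih =>
    have h := codes_x3 y
    unfold Codes at h
    rw [run3_cons, ih, wd3_cons, Subgroup.coe_mul, Units.val_mul, ← Matrix.vecMul_vecMul, toVec_vmul, h]

theorem run3_lt (w : List Spor.Fi22.Gen) {p : ℕ} (hp : p < 2 ^ 54) : run3 w p < 2 ^ 54 := by
  induction w generalizing p with
  | nil => exact hp
  | cons y w ih => rw [run3_cons]; exact ih (vmul_lt _ _)

/-- **Two words which differ on a vector.** -/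
theorem wd3_ne {v w : List Spor.Fi22.Gen} {p : ℕ} (hp : p < 2 ^ 54)
    (h : Nat.beq (run3 v p) (run3 w p) = false) : wd3 v ≠ wd3 w := by
  intro he
  have h1 := toVec_run3 v p
  rw [he, ← toVec_run3] at h1
  have h2 := toVec_inj (run3_lt v hp) (run3_lt w hp) h1
  rw [h2, Nat.beq_refl] at h
  exact absurd h (by simp)

/-- the matrix of `om3` -/
def mS : ℕ := 0xc000000000000200000000000003000000000000080000000000000c000000000000200000000000003000000000000080000000000000c000000000000200000000000003000000000000080000000000000c000000000000200000000000003000000000000080000000000000c000000000000200000000000003000000000000080000000000000c000000000000200000000000003000000000000080000000000000c000000000000200000000000003000000000000080000000000000c000000000000200000000000003000000000000080000000000000c000000000000200000000000003000000000000080000000000000c000000000000200000000000003000000000000080000000000000c000000000000200000000000003000000000000080000000000000c000000000000200000000000003000000000000080000000000000c000000000000200000000000003000000000000080000000000000c0000000000002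

theorem chkMS : F2MatGroup.run 54 ThreeFi22.wsS ThreeFi22.L0
    (fun L => Nat.beq (F2MatGroup.get (F2Mat.one 54) L 0) mS) = true := by decide +kernel

theorem codes_om3 : Codes 54 ((om3 : K3) : GL (Fin 54) (ZMod 2)) mS := by
  obtain ⟨L', h1, h2⟩ := run_sound ThreeFi22.codesL chkMS
  rw [ThreeFi22.runS] at h1
  have h3 := codes_get h1 0
  rw [Nat.eq_of_beq_eq_true h2] at h3
  rw [coe_om3]
  exact h3

/-- the scalar on vectors -/
def sc (i q : ℕ) : ℕ := Nat.rec q (fun _ ih => vmul 54 ih mS) i

theorem sc_zero (q : ℕ) : sc 0 q = q := rfl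
theorem sc_succ (i q : ℕ) : sc (i + 1) q = vmul 54 (sc i q) mS := rfl

theorem toVec_sc (i q : ℕ) : toVec 54 (sc i q) =
    Matrix.vecMul (toVec 54 q) (((om3 ^ i : K3) : GL (Fin 54) (ZMod 2)) : Matrix (Fin 54) (Fin 54) (ZMod 2)) := by
  induction i with
  | zero => rw [sc_zero, pow_zero, Subgroup.coe_one, Units.val_one, Matrix.vecMul_one]
  | succ i ih =>
    have h := codes_om3
    unfold Codes at h
    rw [sc_succ, toVec_vmul, ih, pow_succ, Subgroup.coe_mul, Units.val_mul, ← Matrix.vecMul_vecMul, h]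

theorem sc_lt (i : ℕ) {q : ℕ} (hq : q < 2 ^ 54) : sc i q < 2 ^ 54 := by
  cases i with
  | zero => exact hq
  | succ i => rw [sc_succ]; exact vmul_lt _ _

/-- The test: on the vector `p`, the word `v` is the word `w` times the `i`-th power of the scalar. -/
def chk3 (v w : List Spor.Fi22.Gen) (i p : ℕ) : Bool :=
  force (run3 w p) fun q => force (vmul 54 q mS) fun q1 => force (vmul 54 q1 mS) fun q2 =>
    cond (Nat.ble (2 ^ 54) p) false <|
    cond (Nat.beq q q1) false <|
    cond (Nat.beq q q2) false <|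
    cond (Nat.beq q1 q2) false <|
    Nat.beq (run3 v p) (Nat.rec q (fun j _ => Nat.rec q1 (fun _ _ => q2) j) i)

theorem chk3_sound {v w : List Spor.Fi22.Gen} {i p : ℕ} (hi : i < 3) (h : chk3 v w i p = true) :
    p < 2 ^ 54 ∧ (∀ j < 3, sc j (run3 w p) = sc i (run3 w p) → j = i) ∧ run3 v p = sc i (run3 w p) := by
  unfold chk3 at h
  rw [force_eq, force_eq, force_eq] at h
  set q := run3 w p with hq
  have e1 : vmul 54 q mS = sc 1 q := rfl
  have e2 : vmul 54 (sc 1 q) mS = sc 2 q := rfl
  rw [e1, e2] at h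
  rcases h1 : Nat.ble (2 ^ 54) p with _ | _
  · rw [h1, cond_false] at h
    have hp : p < 2 ^ 54 := by
      by_contra hc
      rw [Nat.ble_eq_true_of_le (not_lt.1 hc)] at h1
      exact absurd h1 (by simp)
    rcases h2 : Nat.beq q (sc 1 q) with _ | _
    · rw [h2, cond_false] at h
      rcases h3 : Nat.beq q (sc 2 q) with _ | _
      · rw [h3, cond_false] at h
        rcases h4 : Nat.beq (sc 1 q) (sc 2 q) with _ | _
        · rw [h4, cond_false] at h
          have n1 : q ≠ sc 1 q := fun e => by rw [← e, Nat.beq_refl] at h2; exact absurd h2 (by simp)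
          have n2 : q ≠ sc 2 q := fun e => by rw [← e, Nat.beq_refl] at h3; exact absurd h3 (by simp)
          have n3 : sc 1 q ≠ sc 2 q := fun e => by rw [← e, Nat.beq_refl] at h4; exact absurd h4 (by simp)
          have e0 : sc 0 q = q := rfl
          refine ⟨hp, ?_, ?_⟩
          · intro j hj he
            interval_cases i <;> interval_cases j <;> first | rfl | (rw [e0] at he; exact absurd he (by first | exact n1 | exact n2 | exact n1.symm | exact n2.symm)) | exact absurd he (by first | exact n3 | exact n3.symm)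
          · have h5 := Nat.eq_of_beq_eq_true h
            interval_cases i <;> exact h5
        · rw [h4] at h; exact absurd h (by simp)
      · rw [h3] at h; exact absurd h (by simp)
    · rw [h2] at h; exact absurd h (by simp)
  · rw [h1] at h; exact absurd h (by simp)

/-- **Two words with the same value in `Fi22`, compared on one vector.** -/
theorem wd3_eq {v w : List Spor.Fi22.Gen} {i p : ℕ} (hi : i < 3) (hw : Fi22PtsRep.wd v = Fi22PtsRep.wd w)
    (h : chk3 v w i p = true) : wd3 v = wd3 w * om3 ^ i := by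
  obtain ⟨hp, hu, he⟩ := chk3_sound hi h
  have h1 : (wd3 w)⁻¹ * wd3 v ∈ pi3.ker := by
    rw [MonoidHom.mem_ker, map_mul, map_inv, pi3_wd3, pi3_wd3, hw, inv_mul_cancel]
  rw [ker3] at h1
  haveI : Finite K3 := inferInstance
  obtain ⟨n, hn⟩ := (mem_zpowers_iff_mem_range_orderOf (x := om3)).1 h1 |> Finset.mem_image.1
  rw [Finset.mem_range, order_om3] at hn
  have h2 : wd3 v = wd3 w * om3 ^ n := by rw [hn.2, mul_inv_cancel_left]
  have h3 := toVec_run3 v p
  rw [h2, Subgroup.coe_mul, Units.val_mul, ← Matrix.vecMul_vecMul, ← toVec_run3, ← toVec_sc] at h3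
  have h4 := toVec_inj (run3_lt v hp) (sc_lt n (run3_lt w hp)) h3
  rw [h2, hu n hn.1 (by rw [← h4, he])]

/-- A word with the value one in `Fi22`, read off from one vector. -/
theorem wd3_eq_om {v : List Spor.Fi22.Gen} {i p : ℕ} (hi : i < 3) (hw : Fi22PtsRep.wd v = 1)
    (h : chk3 v [] i p = true) : wd3 v = om3 ^ i := by
  have h1 := wd3_eq (v := v) (w := []) hi (by rw [hw, Fi22PtsRep.wd_nil]) h
  rw [wd3_nil, one_mul] at h1
  exact h1

/-- two words which do not commute -/
theorem comm_ne {v w : List Spor.Fi22.Gen} {p : ℕ} (hp : p < 2 ^ 54)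
    (h : Nat.beq (run3 (v ++ w) p) (run3 (w ++ v) p) = false) : wd3 v * wd3 w ≠ wd3 w * wd3 v := by
  rw [← wd3_append, ← wd3_append]
  exact wd3_ne hp h

end Cfsg.Agent.H922.QS.FiThree
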